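import Cfsg.Agent.Lib.OrthSylowTwo.Main
import Cfsg.Agent.Lib.OrthClasses.InvolutionKinds
import Cfsg.Agent.Lib.TransvMax.SymRootModels
import Cfsg.Agent.S0286
import Cfsg.Agent.S0287
import Cfsg.Agent.S0288
import Mathlib

/-!
Diagonal bases and 2-adic orders for the standard quadratic spaces.
-/

set_option autoImplicit false
set_option linter.unusedSectionVars false

namespace Cfsg.Agent.OrthSylowTwo

open Cfsg.Agent.FormsLib Cfsg.Agent.TwoRank Cfsg.Agent.FGS.SqC

variable {F : Type*} [Field F] [Fintype F] {ι : Type} [Fintype ι] [DecidableEq ι] {Q : QuadraticForm F (ι → F)}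

/-- An orthogonal basis with all values one but the last. -/
theorem exists_diag_basis (h2 : (2 : F) ≠ 0) (hQ : (QuadraticMap.polarBilin Q).Nondegenerate) {k : ℕ}
    (hk : Fintype.card ι = k + 1) :
    ∃ v : Fin (k + 1) → ι → F, IsOrth Q v ∧ ∀ i, i ≠ Fin.last k → Q (v i) = 1 := by
  classical
  have hd : Module.finrank F (ι → F) = k + 1 := by rw [Module.finrank_fintype_fun_eq_card, hk]
  have htop : (⊤ : Submodule F (ι → F)) ⊓ LinearMap.BilinForm.orthogonal (QuadraticMap.polarBilin Q) ⊤ = ⊥ := by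
    rw [top_inf_eq, Submodule.eq_bot_iff]
    exact fun x hx => hQ.2 x fun y => hx y trivial
  obtain ⟨v, -, hv1, hv2⟩ := SymRoot.exists_orth_values (Q := Q) h2 k (fun _ => 1) (fun _ => one_ne_zero) ⊤ htop
    (by rw [finrank_top]; omega)
  let φ : (ι → F) →ₗ[F] (Fin k → F) := LinearMap.pi fun i => QuadraticMap.polarBilin Q (v i)
  obtain ⟨u, hu, hu0⟩ := Submodule.exists_mem_ne_zero_of_ne_bot
    (LinearMap.ker_ne_bot_of_finrank_lt (f := φ) (by rw [hd, Module.finrank_fin_fun]; omega))
  have huv : ∀ i, QuadraticMap.polar Q (v i) u = 0 := fun i => congrFun (show φ u = 0 from hu) i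
  set w : Fin (k + 1) → ι → F := Fin.snoc v u
  have horth : ∀ i j, i ≠ j → QuadraticMap.polar Q (w i) (w j) = 0 := by
    intro i j
    refine Fin.lastCases ?_ (fun a => ?_) i <;> refine Fin.lastCases ?_ (fun b => ?_) j <;> intro hij
    · exact absurd rfl hij
    · simpa [w, QuadraticMap.polar_comm Q u] using huv b
    · simpa [w] using huv a
    · simpa [w] using hv1 a b fun e => hij (by rw [e])
  have hval : ∀ i, i ≠ Fin.last k → Q (w i) = 1 := by
    intro i
    refine Fin.lastCases ?_ (fun a => ?_) i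
    · exact fun h => absurd rfl h
    · intro _; simpa [w] using hv2 a
  have hli : LinearIndependent F w := by
    rw [Fintype.linearIndependent_iff]
    intro c hc
    have h1 : ∀ a : Fin k, c a.castSucc = 0 := fun a => by
      have h := congrArg (QuadraticMap.polarBilin Q (w a.castSucc)) hc
      rw [map_sum, Finset.sum_eq_single a.castSucc (fun b _ hb => by
        rw [map_smul, QuadraticMap.polarBilin_apply_apply, horth _ _ (Ne.symm hb), smul_zero]) (by simp),
        map_zero, map_smul, QuadraticMap.polarBilin_apply_apply, polar_self',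
        hval _ (Fin.castSucc_lt_last a).ne, smul_eq_mul, mul_one] at h
      exact (mul_eq_zero.1 h).resolve_right h2
    intro i
    refine Fin.lastCases ?_ h1 i
    rw [Fin.sum_univ_castSucc] at hc
    simp [h1, w, hu0] at hc
    exact hc
  have hspan : ⊤ ≤ Submodule.span F (Set.range w) :=
    (hli.span_eq_top_of_card_eq_finrank (by rw [Fintype.card_fin, hd])).ge
  refine ⟨w, ⟨horth, fun i => ?_, hspan⟩, hval⟩
  by_cases hi : i = Fin.last k
  · subst hi
    intro h0
    refine hu0 (hQ.1 u fun y => ?_)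
    obtain ⟨c, rfl⟩ := (Submodule.mem_span_range_iff_exists_fun F).1 (hspan (Submodule.mem_top (x := y)))
    rw [map_sum]
    refine Finset.sum_eq_zero fun j _ => ?_
    rw [map_smul, QuadraticMap.polarBilin_apply_apply]
    by_cases hj : j = Fin.last k
    · subst hj
      rw [show w (Fin.last k) = u by simp [w]] at h0 ⊢
      rw [polar_self', h0, mul_zero, smul_zero]
    · rw [show u = w (Fin.last k) by simp [w], horth _ _ (Ne.symm hj), smul_zero]
  · rw [hval i hi]; exact one_ne_zero

/-- The model is isometric to any space with a suitable orthogonal basis. -/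
theorem exists_model (h2 : (2 : F) ≠ 0) {n r : ℕ} {v : (Fin n × Fin 2) ⊕ Fin r → ι → F} (hv : IsOrth Q v)
    (h1 : ∀ p, Q (v (Sum.inl p)) = 1) :
    ∃ L : W F n r ≃ₗ[F] (ι → F), ∀ x, Q (L x) = QW n (fun j => Q (v (Sum.inr j))) x := by
  classical
  let b := hv.basis h2
  let e1 : W F n r ≃ₗ[F] ((Fin n × Fin 2) ⊕ Fin r → F) :=
    ((LinearEquiv.curry F F (Fin n) (Fin 2)).symm.prodCongr (LinearEquiv.refl F _)).trans
      (LinearEquiv.sumArrowLequivProdArrow (Fin n × Fin 2) (Fin r) F F).symm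
  refine ⟨e1.trans b.equivFun.symm, fun x => ?_⟩
  have : Invertible (2 : F) := invertibleOfNonzero h2
  have key : ∀ y, Q (b.equivFun.symm y) = ∑ s, Q (v s) * (y s * y s) := by
    intro y
    have h := DFunLike.congr_fun (QuadraticMap.basisRepr_eq_of_iIsOrtho (Q := Q) b (fun s t hst => by
      show QuadraticMap.associated Q (b s) (b t) = 0
      rw [hv.basis_apply h2, hv.basis_apply h2, QuadraticMap.associated_apply]
      have := hv.orth s t hst
      simp only [QuadraticMap.polar] at this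
      rw [this, smul_zero])) y
    rw [QuadraticMap.basisRepr_apply] at h
    rw [Module.Basis.equivFun_symm_apply, h, QuadraticMap.weightedSumSquares_apply]
    exact Finset.sum_congr rfl fun s _ => by rw [hv.basis_apply h2, smul_eq_mul]
  show Q (b.equivFun.symm (e1 x)) = _
  rw [key, QW_apply, Fintype.sum_sum_type, Fintype.sum_prod_type]
  refine congrArg₂ (· + ·) (Finset.sum_congr rfl fun k _ => ?_) rfl
  rw [Fin.sum_univ_two, B_apply, h1, h1, one_mul, one_mul]
  rfl

section Val

variable {q : ℕ}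

theorem val_two_pow_sub (hq : 1 < q) (ho : Odd q) {m : ℕ} (hm : 1 ≤ m) :
    padicValNat 2 (q ^ m - 1) + padicValNat 2 (q ^ m + 1) = padicValNat 2 (q ^ 2 - 1) + padicValNat 2 m := by
  obtain ⟨i, rfl⟩ : ∃ i, m = i + 1 := ⟨m - 1, by omega⟩
  rw [← val_even hq ho i, ← padicValNat.mul (odd_pow_sub_one hq _ (by omega)) (by omega),
    mul_comm (q ^ (i + 1) - 1), OrthOrder.sq_pow_sub_one]

theorem val_split (hq : 1 < q) (ho : Odd q) :
    padicValNat 2 (q - 1) + padicValNat 2 (q + 1) = padicValNat 2 (q ^ 2 - 1) := by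
  simpa using val_two_pow_sub hq ho (m := 1) le_rfl

theorem val_one_of_mod (hq : 1 < q) :
    (q % 4 = 1 → padicValNat 2 (q + 1) = 1) ∧ (q % 4 = 3 → padicValNat 2 (q - 1) = 1) := by
  have key : ∀ x, x % 4 = 2 → padicValNat 2 x = 1 := fun x hx => by
    rw [show x = 2 * (x / 2) by omega, padicValNat.mul two_ne_zero (by omega), padicValNat.self one_lt_two,
      padicValNat.eq_zero_of_not_dvd (by omega)]
  exact ⟨fun h => key _ (by omega), fun h => key _ (by omega)⟩

theorem val_pow_parity (hq : 1 < q) (ho : Odd q) {m : ℕ} (hm : 1 ≤ m) :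
    (Even m → padicValNat 2 (q ^ m - 1) + 1 = padicValNat 2 (q ^ 2 - 1) + padicValNat 2 m ∧
      padicValNat 2 (q ^ m + 1) = 1) ∧
    (Odd m → padicValNat 2 (q ^ m - 1) = padicValNat 2 (q - 1) ∧
      padicValNat 2 (q ^ m + 1) = padicValNat 2 (q + 1) ∧ padicValNat 2 m = 0) := by
  have h := val_two_pow_sub hq ho hm
  constructor
  · rintro ⟨j, rfl⟩
    obtain ⟨i, rfl⟩ : ∃ i, j = i + 1 := ⟨j - 1, by omega⟩
    rw [show i + 1 + (i + 1) = 2 * (i + 1) by ring] at h ⊢
    rw [val_even hq ho i, padicValNat.mul two_ne_zero (by omega), padicValNat.self one_lt_two] at h ⊢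
    omega
  · intro hmo
    have h0 : padicValNat 2 m = 0 := padicValNat.eq_zero_of_not_dvd (by rw [Nat.odd_iff] at hmo; omega)
    obtain ⟨i, rfl⟩ := hmo
    have h1 := val_odd hq ho i
    have h2' := val_split hq ho
    omega

theorem val_fac {m : ℕ} (hm : 1 ≤ m) :
    padicValNat 2 m.factorial = padicValNat 2 m + padicValNat 2 (m - 1).factorial := by
  obtain ⟨i, rfl⟩ : ∃ i, m = i + 1 := ⟨m - 1, by omega⟩
  rw [Nat.factorial_succ, padicValNat.mul (by omega) i.factorial_ne_zero, Nat.add_sub_cancel]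

theorem val_order_odd (hq : 1 < q) (ho : Odd q) (N m : ℕ) :
    padicValNat 2 (2 * q ^ N * ∏ i ∈ Finset.range m, (q ^ (2 * (i + 1)) - 1)) =
      1 + (m * padicValNat 2 (q ^ 2 - 1) + padicValNat 2 m.factorial) := by
  have h1 : (∏ i ∈ Finset.range m, (q ^ (2 * (i + 1)) - 1)) ≠ 0 :=
    Finset.prod_ne_zero_iff.2 fun i _ => odd_pow_sub_one hq _ (by omega)
  have h2 : q ^ N ≠ 0 := pow_ne_zero _ (by omega)
  rw [padicValNat.mul (mul_ne_zero two_ne_zero h2) h1, padicValNat.mul two_ne_zero h2,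
    padicValNat.self one_lt_two, val_q_pow ho, val_prod_even hq ho, add_zero]

theorem val_order_even (hq : 1 < q) (ho : Odd q) (N m X : ℕ) (hX : X ≠ 0) :
    padicValNat 2 (2 * q ^ N * X * ∏ i ∈ Finset.range m, (q ^ (2 * (i + 1)) - 1)) =
      1 + padicValNat 2 X + (m * padicValNat 2 (q ^ 2 - 1) + padicValNat 2 m.factorial) := by
  have h1 : (∏ i ∈ Finset.range m, (q ^ (2 * (i + 1)) - 1)) ≠ 0 :=
    Finset.prod_ne_zero_iff.2 fun i _ => odd_pow_sub_one hq _ (by omega)
  have h2 : q ^ N ≠ 0 := pow_ne_zero _ (by omega)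
  rw [padicValNat.mul (mul_ne_zero (mul_ne_zero two_ne_zero h2) hX) h1,
    padicValNat.mul (mul_ne_zero two_ne_zero h2) hX, padicValNat.mul two_ne_zero h2,
    padicValNat.self one_lt_two, val_q_pow ho, val_prod_even hq ho, add_zero]

end Val

theorem cls_neg_one_pow (h2 : (2 : F) ≠ 0) (m : ℕ) :
    cls ((-1 : F) ^ m) = 1 ↔ Even m ∨ Fintype.card F % 4 = 1 := by
  have hodd : Fintype.card F % 2 = 1 := FiniteField.odd_card_of_char_ne_two (Spinor.ringChar_ne_two h2)
  rw [cls_eq_one]
  rcases Nat.even_or_odd m with he | ho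
  · rw [he.neg_one_pow]; exact iff_of_true IsSquare.one (Or.inl he)
  · rw [ho.neg_one_pow, FiniteField.isSquare_neg_one_iff, or_iff_right (Nat.not_even_iff_odd.2 ho)]
    omega

/-- The 2-part of the orthogonal group of the plane `x² + y²`. -/
theorem val_B (h2 : (2 : F) ≠ 0) :
    padicValNat 2 (Nat.card (oGroup (B F))) = padicValNat 2 (Fintype.card F ^ 2 - 1) := by
  classical
  have hq : 1 < Fintype.card F := Fintype.one_lt_card
  have ho : Odd (Fintype.card F) := Nat.odd_iff.2 (FiniteField.odd_card_of_char_ne_two (Spinor.ringChar_ne_two h2))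
  obtain ⟨c₁, c₂, hab⟩ := Spinor.exists_aniso F
  have hv : IsOrth (B F) (fun s : Fin 2 => (Pi.single s 1 : Fin 2 → F)) := by
    refine ⟨fun i j hij => ?_, fun i => ?_, ?_⟩
    · fin_cases i <;> fin_cases j <;> first | exact absurd rfl hij | simp [QuadraticMap.polar, B_apply]
    · fin_cases i <;> simp [B_apply]
    · rw [← show ⇑(Pi.basisFun F (Fin 2)) = fun s : Fin 2 => (Pi.single s 1 : Fin 2 → F) from
        funext fun s => Pi.basisFun_apply F (Fin 2) s]
      exact (Pi.basisFun F (Fin 2)).span_eq.ge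
  have hprod : cls (∏ s : Fin 2, B F (Pi.single s 1)) = 1 := by simp [Fin.prod_univ_two, B_apply, cls_one]
  have hs := val_split hq ho
  rcases Spinor.equiv_plus_or_minus le_rfl (by simp) (B F) (B_nondeg h2) c₁ c₂ hab with ⟨L, hL⟩ | ⟨L, hL⟩
  · rw [← OrthOrder.card_isometryGroup (Cfsg.quadFormPlus 1 F) (B F) L.symm
      (fun v => by rw [← hL, L.apply_symm_apply]), S0287.result rfl 1 le_rfl, pow_one,
      val_order_even hq ho _ _ _ (by omega)]
    have hL' : ∀ x, OrthOrder.qPlus 1 F (L x) = B F x := fun x => by rw [OrthOrder.qPlus_apply, hL]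
    have h := disc_eq h2 (OrthClasses.isOrth_map L hL' hv) (plus_orth h2 1)
    simp only [hL'] at h
    rw [plus_disc h2, hprod, eq_comm, cls_neg_one_pow h2] at h
    have := (val_one_of_mod hq).1 (h.resolve_left Nat.not_even_one)
    simp only [Nat.sub_self, zero_mul, Nat.factorial_zero, padicValNat_one_right, add_zero]
    omega
  · rw [← OrthOrder.card_isometryGroup (Cfsg.quadFormMinus (1 - 1) F c₁ c₂) (B F) L.symm
      (fun v => by rw [← hL, L.apply_symm_apply]), S0288.result rfl 1 le_rfl c₁ c₂ hab, pow_one,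
      val_order_even hq ho _ _ _ (by omega)]
    obtain ⟨Qm, hQm, -, horth, hdisc⟩ := exists_minus h2 (1 - 1) c₁ c₂ hab
    have hL' : ∀ x, Qm (L x) = B F x := fun x => by rw [hQm, hL]
    rw [← disc_eq h2 (OrthClasses.isOrth_map L hL' hv) horth] at hdisc
    simp only [hL', hprod] at hdisc
    have h : ¬ cls ((-1 : F) ^ (1 - 1 + 1)) = 1 := fun e => by rw [e] at hdisc; exact absurd hdisc (by decide)
    rw [cls_neg_one_pow h2, not_or] at h
    have ho' := Nat.odd_iff.1 ho
    have := (val_one_of_mod hq).2 (by omega)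
    simp only [Nat.sub_self, zero_mul, Nat.factorial_zero, padicValNat_one_right, add_zero]
    omega

/-- The general criterion. -/
theorem omega_sqComm_of_card (h2 : (2 : F) ≠ 0) (hQ : (QuadraticMap.polarBilin Q).Nondegenerate) {n r : ℕ}
    (hn : 2 ≤ n) (hι : Fintype.card ι = 2 * n + r)
    (hsq : r = 0 → ∀ {κ : Type} [Fintype κ] (v : κ → ι → F), IsOrth Q v → cls (∏ i, Q (v i)) = 1)
    (hcard : padicValNat 2 (Nat.card (Cfsg.isometryGroup F ⇑Q)) =
      n * padicValNat 2 (Fintype.card F ^ 2 - 1) + padicValNat 2 n.factorial + r)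
    (P : Sylow 2 (Cfsg.Omega F ⇑Q)) : SqComm (P : Subgroup (Cfsg.Omega F ⇑Q)) := by
  classical
  obtain ⟨k, hk⟩ : ∃ k, Fintype.card ι = k + 1 := ⟨Fintype.card ι - 1, by omega⟩
  obtain ⟨v, hv, hv1⟩ := exists_diag_basis h2 hQ hk
  -- rescale the last vector when its value is a square
  obtain ⟨v, hv, hv1, hlast⟩ : ∃ v : Fin (k + 1) → ι → F, IsOrth Q v ∧ (∀ i, i ≠ Fin.last k → Q (v i) = 1) ∧
      (r = 0 → Q (v (Fin.last k)) = 1) := by
    by_cases hr : r = 0
    · have h := hsq hr v hv
      rw [Fin.prod_univ_castSucc, Finset.prod_eq_one (fun i _ => hv1 _ (Fin.castSucc_lt_last i).ne), one_mul,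
        cls_eq_one] at h
      obtain ⟨z, hz⟩ := h
      have hz0 : z ≠ 0 := fun e => hv.ne _ (by rw [hz, e, mul_zero])
      let c : Fin (k + 1) → F := Function.update 1 (Fin.last k) z⁻¹
      have hc : ∀ i, c i ≠ 0 := fun i => by
        by_cases hi : i = Fin.last k <;> simp [c, hi, hz0]
      refine ⟨fun i => c i • v i, ⟨fun i j hij => ?_, fun i => ?_, ?_⟩, fun i hi => ?_, fun _ => ?_⟩
      · rw [QuadraticMap.polar_smul_left, QuadraticMap.polar_smul_right, hv.orth i j hij, smul_zero, smul_zero]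
      · rw [QuadraticMap.map_smul]
        exact mul_ne_zero (mul_ne_zero (hc i) (hc i)) (hv.ne i)
      · refine hv.span.trans (Submodule.span_le.2 ?_)
        rintro _ ⟨i, rfl⟩
        have := Submodule.smul_mem _ (c i)⁻¹
          (Submodule.subset_span (R := F) ⟨i, rfl⟩ : c i • v i ∈ Submodule.span F (Set.range fun i => c i • v i))
        rwa [smul_smul, inv_mul_cancel₀ (hc i), one_smul] at this
      · simp [c, hi, hv1 i hi]
      · simp [c, QuadraticMap.map_smul, hz]
        field_simp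
    · exact ⟨v, hv, hv1, fun h => absurd h hr⟩
  have hN : Fintype.card ((Fin n × Fin 2) ⊕ Fin r) = Fintype.card (Fin (k + 1)) := by simp; omega
  obtain ⟨e, he⟩ : ∃ e : (Fin n × Fin 2) ⊕ Fin r ≃ Fin (k + 1), ∀ p, Q (v (e (Sum.inl p))) = 1 := by
    let e := Fintype.equivOfCardEq hN
    rcases Nat.eq_zero_or_pos r with hr | hr
    · refine ⟨e, fun p => ?_⟩
      by_cases hp : e (Sum.inl p) = Fin.last k
      · rw [hp]; exact hlast hr
      · exact hv1 _ hp
    · refine ⟨(Equiv.swap (Sum.inr ⟨0, hr⟩) (e.symm (Fin.last k))).trans e, fun p => hv1 _ fun h => ?_⟩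
      rw [Equiv.trans_apply, ← Equiv.eq_symm_apply, ← Equiv.swap_apply_left (Sum.inr ⟨0, hr⟩) (e.symm (Fin.last k))] at h
      exact absurd ((Equiv.swap _ _).injective h) (by simp)
  have hv' : IsOrth Q (fun s => v (e s)) := ⟨fun i j hij => hv.orth _ _ (e.injective.ne hij), fun i => hv.ne _, by
    rw [show (Set.range fun s => v (e s)) = Set.range v from e.surjective.range_comp v]; exact hv.span⟩
  obtain ⟨L, hL⟩ := exists_model h2 hv' he
  refine omega_sqComm h2 (fun j => hv.ne _) hn Q L hL ?_ P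
  rw [val_B h2]
  exact hcard

end Cfsg.Agent.OrthSylowTwo
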