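import Cfsg.Agent.Lib.OrthSylowTwo.Model
import Mathlib

/-!
The monomial subgroup of the diagonal space and Sylow 2-subgroups of its derived orthogonal group.
-/

set_option autoImplicit false
set_option linter.unusedSectionVars false

namespace Cfsg.Agent.OrthSylowTwo

open Cfsg.Agent.FormsLib Cfsg.Agent.Spinor Cfsg.Agent.FGS.SqC QuadraticMap

variable {F : Type*} [Field F] [Fintype F]

/-- The ambient space. -/
abbrev W (F : Type*) (n r : ℕ) : Type _ := (Fin n → Fin 2 → F) × (Fin r → F)

/-- The form on the ambient space. -/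
noncomputable def QW (n : ℕ) {r : ℕ} (w : Fin r → F) : QuadraticForm F (W F n r) :=
  (QuadraticMap.pi fun _ : Fin n => B F).prod (QuadraticMap.weightedSumSquares F w)

variable {n r : ℕ} {w : Fin r → F}

theorem QW_apply (x : W F n r) : QW n w x = (∑ k, B F (x.1 k)) + ∑ j, w j * (x.2 j * x.2 j) := by
  simp [QW, QuadraticMap.prod_apply, QuadraticMap.pi_apply, QuadraticMap.weightedSumSquares_apply, smul_eq_mul]

theorem QW_polar (x y : W F n r) : QuadraticMap.polar (⇑(QW n w)) x y =
    (∑ k, QuadraticMap.polar (⇑(B F)) (x.1 k) (y.1 k)) + ∑ j, 2 * w j * (x.2 j * y.2 j) := by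
  simp only [QuadraticMap.polar, QW_apply, Prod.fst_add, Prod.snd_add, Pi.add_apply, Finset.sum_sub_distrib]
  have e : ∑ j, w j * ((x.2 j + y.2 j) * (x.2 j + y.2 j)) - ∑ j, w j * (x.2 j * x.2 j) - ∑ j, w j * (y.2 j * y.2 j) =
      ∑ j, 2 * w j * (x.2 j * y.2 j) := by
    rw [← Finset.sum_sub_distrib, ← Finset.sum_sub_distrib]
    exact Finset.sum_congr rfl fun j _ => by ring
  linear_combination e

theorem QW_nondeg (h2 : (2 : F) ≠ 0) (hw : ∀ j, w j ≠ 0) : (QuadraticMap.polarBilin (QW n w)).Nondegenerate := by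
  classical
  refine OrthOrder.nondegenerate_iff.2 fun x hx => Prod.ext (funext fun k => ?_) (funext fun j => ?_)
  · refine OrthOrder.nondegenerate_iff.1 (B_nondeg h2) (x.1 k) fun y => ?_
    have h := hx (Pi.single k y, 0)
    rw [QW_polar] at h
    dsimp only at h
    rw [Finset.sum_eq_single k (fun b _ hb => by
      rw [Pi.single_eq_of_ne hb]; exact QuadraticMap.polar_zero_right ..) (by simp), Pi.single_eq_same] at h
    simpa using h
  · have h := hx (0, Pi.single j 1)
    rw [QW_polar, Finset.sum_eq_single j (fun b _ hb => by simp [Pi.single_eq_of_ne hb]) (by simp)] at h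
    simp only [Prod.fst_zero, Pi.zero_apply, Pi.single_eq_same, mul_one] at h
    rw [Finset.sum_eq_zero (fun k _ => QuadraticMap.polar_zero_right ..), zero_add] at h
    exact (mul_eq_zero.1 h).resolve_left (mul_ne_zero h2 (hw j))

/-- Signs as scalars. -/
def sgnE (s : ℤˣ) : F ≃ₗ[F] F where
  toFun y := ((s : ℤ) : F) * y
  invFun y := ((s : ℤ) : F) * y
  map_add' := mul_add _
  map_smul' c y := by simp [mul_left_comm]
  left_inv y := by rcases Int.units_eq_one_or s with rfl | rfl <;> simp
  right_inv y := by rcases Int.units_eq_one_or s with rfl | rfl <;> simp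

/-- The block diagonal isometries. -/
noncomputable def inc : (Fin n → oGroup (B F)) × (Fin r → ℤˣ) →* oGroup (QW n w) where
  toFun z := ⟨(LinearEquiv.piCongrRight fun k => (z.1 k).1).prodCongr
      (LinearEquiv.piCongrRight fun j => sgnE (z.2 j)), fun x => by
    rw [QW_apply, QW_apply]
    refine congrArg₂ (· + ·) (Finset.sum_congr rfl fun k _ => (z.1 k).2 (x.1 k)) (Finset.sum_congr rfl fun j _ => ?_)
    show w j * (((z.2 j : ℤ) : F) * x.2 j * (((z.2 j : ℤ) : F) * x.2 j)) = _
    rcases Int.units_eq_one_or (z.2 j) with e | e <;> simp [e]⟩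
  map_one' := Subtype.ext (LinearEquiv.ext fun x => Prod.ext rfl (funext fun j => by
    show (((1 : ℤˣ) : ℤ) : F) * x.2 j = x.2 j
    simp))
  map_mul' z z' := Subtype.ext (LinearEquiv.ext fun x => Prod.ext rfl (funext fun j => by
    show (((z.2 j * z'.2 j : ℤˣ) : ℤ) : F) * x.2 j = ((z.2 j : ℤ) : F) * (((z'.2 j : ℤ) : F) * x.2 j)
    simp [mul_assoc]))

/-- Permutations of the planes. -/
noncomputable def permW : Equiv.Perm (Fin n) →* oGroup (QW n w) where
  toFun σ := ⟨(LinearEquiv.funCongrLeft F (Fin 2 → F) σ.symm).prodCongr (LinearEquiv.refl F _), fun x => by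
    rw [QW_apply, QW_apply]
    exact congrArg₂ (· + ·) (Equiv.sum_comp σ.symm fun k => B F (x.1 k)) rfl⟩
  map_one' := Subtype.ext (LinearEquiv.ext fun x => rfl)
  map_mul' σ τ := Subtype.ext (LinearEquiv.ext fun x => rfl)

theorem permW_inc (σ : Equiv.Perm (Fin n)) (z : (Fin n → oGroup (B F)) × (Fin r → ℤˣ)) :
    permW (w := w) σ * inc z = inc (fun k => z.1 (σ.symm k), z.2) * permW σ :=
  Subtype.ext (LinearEquiv.ext fun x => rfl)

theorem inc_permW_eq_one {σ : Equiv.Perm (Fin n)} {z : (Fin n → oGroup (B F)) × (Fin r → ℤˣ)} (h2 : (2 : F) ≠ 0)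
    (h : inc (w := w) z * permW σ = 1) : z = 1 ∧ σ = 1 := by
  have h' : ∀ x : W F n r, ((inc (w := w) z).1 ((permW (w := w) σ).1 x)) = x := fun x =>
    congrArg (fun g : oGroup (QW n w) => g.1 x) h
  have hσ : σ = 1 := by
    refine Equiv.ext fun k => ?_
    by_contra hne
    have e := congrArg (fun y : W F n r => y.1 k) (h' (Pi.single k ![1, 0], 0))
    change (z.1 k).1 ((Pi.single k ![1, 0] : Fin n → Fin 2 → F) (σ.symm k)) =
      (Pi.single k ![1, 0] : Fin n → Fin 2 → F) k at e
    rw [Pi.single_eq_same, Pi.single_eq_of_ne (fun e' => hne (by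
      show σ k = k
      conv_lhs => rw [← e']
      exact σ.apply_symm_apply k))] at e
    rw [map_zero] at e
    exact one_ne_zero (congrFun e 0).symm
  subst hσ
  refine ⟨Prod.ext (funext fun k => Subtype.ext (LinearEquiv.ext fun y => ?_)) (funext fun j => ?_), rfl⟩
  · have e := congrArg (fun x : W F n r => x.1 k) (h' (Pi.single k y, 0))
    change (z.1 k).1 ((Pi.single k y : Fin n → Fin 2 → F) k) = (Pi.single k y : Fin n → Fin 2 → F) k at e
    simpa using e
  · have e := congrArg (fun x : W F n r => x.2 j) (h' (0, Pi.single j 1))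
    change ((z.2 j : ℤ) : F) * (Pi.single j (1 : F) : Fin r → F) j = (Pi.single j (1 : F) : Fin r → F) j at e
    rcases Int.units_eq_one_or (z.2 j) with e' | e'
    · exact e'
    · rw [e'] at e
      simp at e
      exact absurd (show (2 : F) = 0 by linear_combination -e) h2

variable (h2 : (2 : F) ≠ 0) (hw : ∀ j, w j ≠ 0)

include h2 hw

theorem chi_inc_single (k : Fin n) (g : oGroup (B F)) :
    chi h2 (QW_nondeg h2 hw) (inc (Pi.mulSingle k g, 1)) = chi h2 (B_nondeg h2) g := by
  classical
  let φ : oGroup (B F) →* oGroup (QW n w) :=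
    (inc (w := w) (n := n)).comp ((MonoidHom.inl _ (Fin r → ℤˣ)).comp (MonoidHom.mulSingle (fun _ : Fin n => oGroup (B F)) k))
  refine chi_comp_eq h2 (QW_nondeg h2 hw) (reflGroup_eq_top_of_odd (B_nondeg h2) h2) φ (chi h2 (B_nondeg h2)) ?_ g
  rintro _ ⟨v, hv, rfl⟩
  set v' : W F n r := (Pi.single k v, 0)
  have hval : QW n w v' = B F v := by
    rw [QW_apply, Finset.sum_eq_single k (fun b _ hb => by simp [v', Pi.single_eq_of_ne hb]) (by simp)]
    simp [v']
  have e : φ (oRefl (B F) v hv) = oRefl (QW n w) v' (by rw [hval]; exact hv) := by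
    refine Subtype.ext (LinearEquiv.ext fun x => ?_)
    have hp : QuadraticMap.polar (⇑(QW n w)) x v' = QuadraticMap.polar (⇑(B F)) (x.1 k) v := by
      rw [QW_polar, Finset.sum_eq_single k (fun b _ hb => by
        simp only [v', Pi.single_eq_of_ne hb]; exact QuadraticMap.polar_zero_right ..) (by simp)]
      simp [v']
    show _ = refl (QW n w) v' (show QW n w v' ≠ 0 by rw [hval]; exact hv) x
    rw [refl_apply, hp, hval]
    refine Prod.ext (funext fun l => ?_) (funext fun j => ?_)
    · show ((Pi.mulSingle k (oRefl (B F) v hv) : Fin n → oGroup (B F)) l).1 (x.1 l) = _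
      by_cases hl : l = k
      · subst hl
        rw [Pi.mulSingle_eq_same]
        show refl (B F) v hv _ = _
        rw [refl_apply]
        simp [v']
      · rw [Pi.mulSingle_eq_of_ne hl]
        simp [v', Pi.single_eq_of_ne hl]
    · show ((1 : ℤ) : F) * x.2 j = _
      simp [v']
  rw [e, chi_refl, chi_refl, hval]

open scoped Classical in
theorem chi_inc_sign (j : Fin r) :
    chi h2 (QW_nondeg (n := n) h2 hw) (inc (1, Pi.mulSingle j (-1))) = (-1, if IsSquare (w j) then 1 else -1) := by
  classical
  set v' : W F n r := (0, Pi.single j 1)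
  have hval : QW n w v' = w j := by
    rw [QW_apply, Finset.sum_eq_single j (fun b _ hb => by simp [v', Pi.single_eq_of_ne hb]) (by simp)]
    simp [v']
  have e : inc (w := w) (n := n) (1, Pi.mulSingle j (-1)) = oRefl (QW n w) v' (by rw [hval]; exact hw j) := by
    refine Subtype.ext (LinearEquiv.ext fun x => ?_)
    have hp : QuadraticMap.polar (⇑(QW n w)) x v' = 2 * w j * x.2 j := by
      rw [QW_polar, Finset.sum_eq_single j (fun b _ hb => by simp [v', Pi.single_eq_of_ne hb]) (by simp),
        Finset.sum_eq_zero (fun k _ => by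
          simp only [v', Pi.zero_apply]; exact QuadraticMap.polar_zero_right ..)]
      simp [v']
    show _ = refl (QW n w) v' (show QW n w v' ≠ 0 by rw [hval]; exact hw j) x
    rw [refl_apply, hp, hval]
    refine Prod.ext (funext fun l => ?_) (funext fun i => ?_)
    · show ((1 : oGroup (B F))).1 (x.1 l) = _
      simp [v']
    · show (((Pi.mulSingle j (-1 : ℤˣ) : Fin r → ℤˣ) i : ℤ) : F) * x.2 i = _
      by_cases hi : i = j
      · subst hi
        have := hw i
        simp [v']
        field_simp
        ring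
      · simp [v', Pi.mulSingle_eq_of_ne hi, Pi.single_eq_of_ne hi]
  rw [e, chi_refl, hval]

theorem chi_permW (σ : Equiv.Perm (Fin n)) : chi h2 (QW_nondeg h2 hw) (permW σ) = 1 := by
  classical
  have key : ∀ s ∈ {σ : Equiv.Perm (Fin n) | σ.IsSwap}, chi h2 (QW_nondeg h2 hw) (permW s) = 1 := by
    rintro s ⟨a, b, hab, rfl⟩
    let u : Fin 2 → W F n r := fun i => (Pi.single a (Pi.single i 1) - Pi.single b (Pi.single i 1), 0)
    have hval : ∀ i, QW n w (u i) = 2 := fun i => by
      rw [QW_apply, Finset.sum_eq_add a b hab (fun c _ hc => by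
        simp [u, Pi.single_eq_of_ne hc.1, Pi.single_eq_of_ne hc.2]) (by simp) (by simp)]
      fin_cases i <;> simp [u, B_apply, hab, hab.symm] <;> ring
    have hp : ∀ i x, QuadraticMap.polar (⇑(QW n w)) x (u i) = 2 * (x.1 a i - x.1 b i) := fun i x => by
      rw [QW_polar, Finset.sum_eq_add a b hab (fun c _ hc => by
        simp only [u, Pi.sub_apply, Pi.single_eq_of_ne hc.1, Pi.single_eq_of_ne hc.2, sub_zero]
        exact QuadraticMap.polar_zero_right ..) (by simp) (by simp)]
      fin_cases i <;> simp [u, B_apply, QuadraticMap.polar, hab, hab.symm] <;> ring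
    have e : permW (w := w) (Equiv.swap a b) =
        oRefl (QW n w) (u 0) (by rw [hval]; exact h2) * oRefl (QW n w) (u 1) (by rw [hval]; exact h2) := by
      refine Subtype.ext (LinearEquiv.ext fun x => ?_)
      show _ = refl (QW n w) (u 0) (show QW n w (u 0) ≠ 0 by rw [hval]; exact h2)
        (refl (QW n w) (u 1) (show QW n w (u 1) ≠ 0 by rw [hval]; exact h2) x)
      rw [refl_apply, refl_apply, QuadraticMap.polar_sub_left, QuadraticMap.polar_smul_left, hp, hp, hp,
        hval, hval]
      refine Prod.ext (funext fun l => funext fun i => ?_) (funext fun j => ?_)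
      · show x.1 ((Equiv.swap a b).symm l) i = _
        rw [Equiv.symm_swap]
        rcases eq_or_ne l a with rfl | hla
        · fin_cases i <;> simp [u, hab, hab.symm] <;> field_simp <;> ring
        rcases eq_or_ne l b with rfl | hlb
        · fin_cases i <;> simp [u, hab, hab.symm] <;> field_simp <;> ring
        rw [Equiv.swap_apply_of_ne_of_ne hla hlb]
        simp [u, Pi.single_eq_of_ne hla, Pi.single_eq_of_ne hlb]
      · show x.2 j = _
        simp [u]
    rw [e, map_mul, chi_refl, chi_refl, hval, hval]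
    split <;> simp
  exact chi_comp_eq h2 (QW_nondeg h2 hw) Equiv.Perm.closure_isSwap permW 1 key σ

end Cfsg.Agent.OrthSylowTwo
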