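import Cfsg.Agent.Lib.FGS.SylowTwoSquares
import Mathlib

/-!
Squares and commutators in the kernel of the product character on a power of a group generated by involutions.
-/

set_option autoImplicit false

namespace Cfsg.Agent.OrthSylowTwo

open Cfsg.Agent.FGS.SqC

variable {D R A : Type*} [Group D] [Group R] [CommGroup A] {n : ℕ}

theorem sqComm_ker (pr : (Fin n → D) × R →* A) (χ : D →* A)
    (hk : ∀ k d, pr (Pi.mulSingle k d, 1) = χ d) (X : Set D) (hX : ∀ x ∈ X, x * x = 1)
    (hgen : Subgroup.closure X = ⊤) (hinv : ∀ c, χ c = 1 → ∃ s ∈ X, s * c * s⁻¹ = c⁻¹)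
    (hA : ∀ a : A, a * a = 1)
    (hR : Subgroup.closure {u : R | u * u = 1 ∧ ∃ x ∈ X, χ x = pr (1, u)} = ⊤) (hn : 2 ≤ n) :
    SqComm pr.ker := by
  classical
  set T : Subgroup ((Fin n → D) × R) := (sqSub pr.ker).map pr.ker.subtype with hTdef
  have hTker : T ≤ pr.ker := Subgroup.map_subtype_le _
  have invT : ∀ z, pr z = 1 → z * z = 1 → z ∈ T := fun z hz hzz =>
    ⟨⟨z, MonoidHom.mem_ker.2 hz⟩, sqSub_of_invol (Subtype.ext hzz), rfl⟩
  have comm : ∀ (k l : Fin n), k ≠ l → ∀ a b : D,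
      (Pi.mulSingle k a : Fin n → D) * Pi.mulSingle l b = Pi.mulSingle l b * Pi.mulSingle k a :=
    fun k l hkl a b => (Pi.mulSingle_apply_commute (fun i => if i = k then a else b) k l |>.eq) |>
      fun e => by simpa [if_pos rfl, if_neg (Ne.symm hkl)] using e
  have pairMul : ∀ (k l : Fin n), k ≠ l → ∀ a b a' b' : D,
      ((Pi.mulSingle k a : Fin n → D) * Pi.mulSingle l b) * (Pi.mulSingle k a' * Pi.mulSingle l b') =
        Pi.mulSingle k (a * a') * Pi.mulSingle l (b * b') := fun k l hkl a b a' b' => by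
    rw [Pi.mulSingle_mul, Pi.mulSingle_mul, mul_assoc, ← mul_assoc (Pi.mulSingle l b : Fin n → D),
      ← comm k l hkl a' b]
    group
  have prPair : ∀ (k l : Fin n) (a b : D), pr (Pi.mulSingle k a * Pi.mulSingle l b, 1) = χ a * χ b := by
    intro k l a b
    rw [← hk k a, ← hk l b, ← map_mul]
    simp
  -- two positions exist
  have other : ∀ k : Fin n, ∃ l, k ≠ l := fun k => by
    have : Nontrivial (Fin n) := Fin.nontrivial_iff_two_le.2 hn
    obtain ⟨l, hl⟩ := exists_ne k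
    exact ⟨l, hl.symm⟩
  have pairX : ∀ k l, k ≠ l → ∀ x ∈ X, ((Pi.mulSingle k x : Fin n → D) * Pi.mulSingle l x, (1 : R)) ∈ T := by
    intro k l hkl x hx
    refine invT _ (by rw [prPair, hA]) (Prod.ext ?_ (one_mul 1))
    show _ * _ = 1
    rw [pairMul k l hkl, hX x hx, Pi.mulSingle_one, Pi.mulSingle_one, one_mul]
  have key0 : ∀ (k : Fin n) (c : D), χ c = 1 → ((Pi.mulSingle k c : Fin n → D), (1 : R)) ∈ T := by
    intro k c hc
    obtain ⟨s, hs, hsc⟩ := hinv c hc
    obtain ⟨l, hkl⟩ := other k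
    have hker : ((Pi.mulSingle k c : Fin n → D), (1 : R)) ∈ pr.ker := by rw [MonoidHom.mem_ker, hk, hc]
    refine ⟨⟨_, hker⟩, sqSub_of_inverted (s := ⟨_, hTker (pairX k l hkl s hs)⟩) (Subtype.ext ?_), rfl⟩
    refine Prod.ext (funext fun m => ?_) (by simp)
    show (Pi.mulSingle k s * Pi.mulSingle l s : Fin n → D) m * (Pi.mulSingle k c : Fin n → D) m *
      ((Pi.mulSingle k s * Pi.mulSingle l s : Fin n → D) m)⁻¹ = ((Pi.mulSingle k c : Fin n → D) m)⁻¹
    by_cases hmk : m = k
    · subst hmk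
      simpa [Pi.mulSingle_eq_of_ne hkl] using hsc
    · simp [Pi.mulSingle_eq_of_ne hmk]
  have key2 : ∀ k l, k ≠ l → ∀ d : D, ∃ d' : D, ((Pi.mulSingle k d : Fin n → D) * Pi.mulSingle l d', (1 : R)) ∈ T := by
    intro k l hkl d
    have hd : d ∈ Subgroup.closure X := by rw [hgen]; exact Subgroup.mem_top d
    induction hd using Subgroup.closure_induction with
    | mem x hx => exact ⟨x, pairX k l hkl x hx⟩
    | one => exact ⟨1, by simp only [Pi.mulSingle_one, one_mul]; exact one_mem T⟩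
    | mul a b _ _ iha ihb =>
      obtain ⟨a', ha⟩ := iha
      obtain ⟨b', hb⟩ := ihb
      refine ⟨a' * b', ?_⟩
      have := mul_mem ha hb
      rwa [Prod.mk_mul_mk, pairMul k l hkl, one_mul] at this
    | inv a _ iha =>
      obtain ⟨a', ha⟩ := iha
      refine ⟨a'⁻¹, ?_⟩
      have := inv_mem ha
      rw [Prod.inv_mk, mul_inv_rev, inv_one, ← Pi.mulSingle_inv, ← Pi.mulSingle_inv, ← comm k l hkl] at this
      exact this
  set k0 : Fin n := ⟨0, by omega⟩
  have key3 : ∀ u : R, ∃ d : D, ((Pi.mulSingle k0 d : Fin n → D), u) ∈ T := by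
    intro u
    have hu : u ∈ Subgroup.closure {u : R | u * u = 1 ∧ ∃ x ∈ X, χ x = pr (1, u)} := by
      rw [hR]; exact Subgroup.mem_top u
    induction hu using Subgroup.closure_induction with
    | mem u hu =>
      obtain ⟨hu2, x, hx, hxu⟩ := hu
      refine ⟨x, invT _ ?_ (Prod.ext ?_ hu2)⟩
      · rw [show ((Pi.mulSingle k0 x : Fin n → D), u) = (Pi.mulSingle k0 x, 1) * (1, u) by simp, map_mul,
          hk, ← hxu, hA]
      · show (Pi.mulSingle k0 x : Fin n → D) * Pi.mulSingle k0 x = 1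
        rw [← Pi.mulSingle_mul, hX x hx, Pi.mulSingle_one]
    | one => exact ⟨1, by rw [Pi.mulSingle_one]; exact one_mem T⟩
    | mul a b _ _ iha ihb =>
      obtain ⟨a', ha⟩ := iha
      obtain ⟨b', hb⟩ := ihb
      refine ⟨a' * b', ?_⟩
      have := mul_mem ha hb
      rwa [Prod.mk_mul_mk, ← Pi.mulSingle_mul] at this
    | inv a _ iha =>
      obtain ⟨a', ha⟩ := iha
      refine ⟨a'⁻¹, ?_⟩
      have := inv_mem ha
      rwa [Prod.inv_mk, ← Pi.mulSingle_inv] at this
  have key4 : ∀ (s : Finset (Fin n)) (f : Fin n → D), k0 ∉ s → (∀ k, k ∉ s → k ≠ k0 → f k = 1) →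
      pr (f, 1) = 1 → (f, (1 : R)) ∈ T := by
    intro s
    induction s using Finset.induction_on with
    | empty =>
      intro f _ hf hpr
      have e : f = Pi.mulSingle k0 (f k0) := funext fun k => by
        by_cases h : k = k0
        · subst h; simp
        · rw [Pi.mulSingle_eq_of_ne h, hf k (by simp) h]
      rw [e] at hpr ⊢
      exact key0 _ _ (by rwa [hk] at hpr)
    | @insert k s hks ih =>
      intro f h0 hf hpr
      rw [Finset.mem_insert, not_or] at h0
      obtain ⟨d', hd'⟩ := key2 k k0 (Ne.symm h0.1) (f k)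
      set g : Fin n → D := (Pi.mulSingle k (f k) * Pi.mulSingle k0 d')⁻¹ * f
      have hg : (g, (1 : R)) ∈ T := by
        refine ih g h0.2 (fun j hj hj0 => ?_) ?_
        · by_cases hjk : j = k
          · subst hjk
            simp [g, Pi.mulSingle_eq_of_ne hj0]
          · simp [g, Pi.mulSingle_eq_of_ne hj0, Pi.mulSingle_eq_of_ne hjk,
              hf j (by simp [hjk, hj]) hj0]
        · rw [show (g, (1 : R)) = ((Pi.mulSingle k (f k) * Pi.mulSingle k0 d' : Fin n → D), (1 : R))⁻¹ * (f, 1) by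
            simp [g], map_mul, map_inv, hpr, MonoidHom.mem_ker.1 (hTker hd')]
          simp
      have := mul_mem hd' hg
      rw [Prod.mk_mul_mk, one_mul, mul_inv_cancel_left] at this
      exact this
  rintro ⟨z, hz⟩
  rw [← mem_sqSub]
  obtain ⟨d, hd⟩ := key3 z.2
  have hz' : z * ((Pi.mulSingle k0 d : Fin n → D), z.2)⁻¹ ∈ T := by
    have e : z * ((Pi.mulSingle k0 d : Fin n → D), z.2)⁻¹ = (z.1 * (Pi.mulSingle k0 d)⁻¹, 1) :=
      Prod.ext rfl (by simp)
    have hp : pr (z * ((Pi.mulSingle k0 d : Fin n → D), z.2)⁻¹) = 1 := by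
      rw [map_mul, map_inv, MonoidHom.mem_ker.1 hz, MonoidHom.mem_ker.1 (hTker hd)]
      simp
    rw [e] at hp ⊢
    exact key4 (Finset.univ.erase k0) _ (Finset.notMem_erase _ _) (fun k hk hk0 => by simp [hk0] at hk) hp
  have := mul_mem hz' hd
  rw [inv_mul_cancel_right] at this
  obtain ⟨y, hy, hyz⟩ := this
  rwa [show (⟨z, hz⟩ : pr.ker) = y from Subtype.ext hyz.symm]

end Cfsg.Agent.OrthSylowTwo
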