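import Cfsg.Agent.Lib.OrthSylowTwo.Monomial
import Cfsg.Agent.Lib.LinearGroups.OrthOrder
import Mathlib

/-!
Sylow 2-subgroups of derived orthogonal groups in odd characteristic.
-/

set_option autoImplicit false
set_option linter.unusedSectionVars false

namespace Cfsg.Agent.OrthSylowTwo

open Cfsg.Agent.FormsLib Cfsg.Agent.Spinor Cfsg.Agent.FGS.SqC QuadraticMap

theorem sylow_surj {G A : Type*} [Group G] [Finite G] [Group A] (χ : G →* A) (hχ : Function.Surjective χ)
    (hA : IsPGroup 2 A) (D : Sylow 2 G) (a : A) : ∃ d ∈ (D : Subgroup G), χ d = a := by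
  have hF : Finite A := Finite.of_surjective χ hχ
  have htop : ((D.mapSurjective hχ : Sylow 2 A) : Subgroup A) = ⊤ :=
    ((D.mapSurjective hχ).3 (hA.to_subgroup ⊤) le_top).symm
  have hm : a ∈ ((D.mapSurjective hχ : Sylow 2 A) : Subgroup A) := by rw [htop]; trivial
  rw [Sylow.coe_mapSurjective] at hm
  exact hm

theorem isPGroup_signs {κ : Type*} [Finite κ] : IsPGroup 2 (κ → ℤˣ) := fun g =>
  ⟨1, funext fun k => by simp [Int.units_sq]⟩

theorem isPGroup_two_signs : IsPGroup 2 (ℤˣ × ℤˣ) := fun g => ⟨1, by ext <;> simp [Int.units_sq]⟩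

theorem two_signs_mul_self (a : ℤˣ × ℤˣ) : a * a = 1 := Prod.ext (Int.units_mul_self _) (Int.units_mul_self _)

variable {F : Type*} [Field F] [Fintype F] {n r : ℕ} {w : Fin r → F}

instance finite_oGroup {V : Type*} [AddCommGroup V] [Module F V] [FiniteDimensional F V] (Q : QuadraticForm F V) :
    Finite (oGroup Q) := by
  haveI : Finite V := Module.finite_of_finite F
  exact Finite.of_injective (fun g : oGroup Q => ⇑g.1) fun g h e => Subtype.ext (DFunLike.coe_injective e)

theorem sylow_model (h2 : (2 : F) ≠ 0) (hw : ∀ j, w j ≠ 0) (hn : 2 ≤ n)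
    (hcard : padicValNat 2 (Nat.card (oGroup (QW n w))) =
      n * padicValNat 2 (Nat.card (oGroup (B F))) + padicValNat 2 n.factorial + r)
    (P : Sylow 2 (commutator (oGroup (QW n w)))) :
    SqComm (P : Subgroup (commutator (oGroup (QW n w)))) := by
  classical
  have hnd := QW_nondeg (n := n) h2 hw
  have hBnd := B_nondeg (F := F) h2
  let D : Sylow 2 (oGroup (B F)) := default
  let S : Sylow 2 (Equiv.Perm (Fin n)) := default
  let M := (Fin n → (D : Subgroup (oGroup (B F)))) × (Fin r → ℤˣ)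
  let i0 : M →* oGroup (QW n w) :=
    (inc (n := n) (w := w)).comp (MonoidHom.prodMap
      (MonoidHom.pi fun k => (D : Subgroup (oGroup (B F))).subtype.comp (Pi.evalMonoidHom _ k)) (MonoidHom.id _))
  let pr : M →* ℤˣ × ℤˣ := (chi h2 hnd).comp i0
  let χD : (D : Subgroup (oGroup (B F))) →* ℤˣ × ℤˣ := (chi h2 hBnd).comp (D : Subgroup (oGroup (B F))).subtype
  have hk : ∀ k d, pr (Pi.mulSingle k d, 1) = χD d := fun k d => by
    show chi h2 hnd (inc (fun l => ((Pi.mulSingle k d : Fin n → (D : Subgroup (oGroup (B F)))) l : oGroup (B F)), 1)) = _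
    rw [show (fun l => ((Pi.mulSingle k d : Fin n → (D : Subgroup (oGroup (B F)))) l : oGroup (B F))) =
      Pi.mulSingle k d.1 from funext fun l => by
        by_cases hl : l = k
        · subst hl; simp
        · simp [Pi.mulSingle_eq_of_ne hl], chi_inc_single h2 hw]
    rfl
  have hlift : ∀ a, ∃ d : (D : Subgroup (oGroup (B F))), χD d = a := fun a => by
    obtain ⟨d, hd, e⟩ := sylow_surj _ (chi_B_surjective h2) isPGroup_two_signs D a
    exact ⟨⟨d, hd⟩, e⟩
  have hsurj : Function.Surjective pr := fun a => by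
    obtain ⟨d, hd⟩ := hlift a
    exact ⟨(Pi.mulSingle ⟨0, by omega⟩ d, 1), (hk _ d).trans hd⟩
  let X : Set (D : Subgroup (oGroup (B F))) := {x | (χD x).1 = -1}
  have hX : ∀ x ∈ X, x * x = 1 := fun x hx => Subtype.ext (plane_invol h2 x.1 hx)
  obtain ⟨s, hs⟩ := hlift (-1, 1)
  have hsX : s ∈ X := congrArg Prod.fst hs
  have hgen : Subgroup.closure X = ⊤ := by
    rw [eq_top_iff]
    intro d _
    rcases Int.units_eq_one_or (χD d).1 with h | h
    · have hm : s * d ∈ X := by
        show (χD (s * d)).1 = -1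
        rw [map_mul, Prod.fst_mul, h, hs, mul_one]
      have := mul_mem (inv_mem (Subgroup.subset_closure hsX)) (Subgroup.subset_closure hm)
      rwa [inv_mul_cancel_left] at this
    · exact Subgroup.subset_closure h
  have hinv : ∀ c, χD c = 1 → ∃ x ∈ X, x * c * x⁻¹ = c⁻¹ := fun c hc => by
    refine ⟨s, hsX, ?_⟩
    have h := hX (s * c) (by show (χD (s * c)).1 = -1; rw [map_mul, hc, hs]; rfl)
    rw [inv_eq_of_mul_eq_one_right (hX s hsX)]
    exact eq_inv_of_mul_eq_one_left (by rw [← h]; group)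
  have hR : Subgroup.closure {u : Fin r → ℤˣ | u * u = 1 ∧ ∃ x ∈ X, χD x = pr (1, u)} = ⊤ := by
    rw [eq_top_iff]
    intro u _
    refine Subgroup.pi_mem_of_mulSingle_mem u fun j => ?_
    rcases Int.units_eq_one_or (u j) with e | e <;> rw [e]
    · rw [Pi.mulSingle_one]; exact one_mem _
    refine Subgroup.subset_closure ⟨by rw [← Pi.mulSingle_mul]; simp, ?_⟩
    obtain ⟨x, hx⟩ := hlift (pr (1, Pi.mulSingle j (-1)))
    refine ⟨x, ?_, hx⟩
    show (χD x).1 = -1
    rw [hx]
    exact congrArg Prod.fst (chi_inc_sign (n := n) h2 hw j)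
  have hN : SqComm pr.ker := sqComm_ker pr χD hk X hX hgen hinv two_signs_mul_self hR hn
  let iN : pr.ker →* commutator (oGroup (QW n w)) :=
    (i0.comp pr.ker.subtype).codRestrict _ fun z => by rw [← chi_ker h2 hnd]; exact z.2
  let jS : (S : Subgroup (Equiv.Perm (Fin n))) →* commutator (oGroup (QW n w)) :=
    ((permW (w := w)).comp (S : Subgroup (Equiv.Perm (Fin n))).subtype).codRestrict _ fun σ => by
      rw [← chi_ker h2 hnd]; exact chi_permW h2 hw _
  refine block_sylow iN jS (fun σ z => ?_) (fun z σ h => ?_) ?_ (sqComm_sylow_perm S)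
    (fun H i' j' _ _ z => hom_sqSub i' hN z) P
  · have e : i0 (fun k => z.1.1 (σ.1.symm k), z.1.2) = permW σ.1 * i0 z.1 * (permW σ.1)⁻¹ :=
      eq_mul_inv_iff_mul_eq.2 (permW_inc (w := w) σ.1 (fun k => (z.1.1 k).1, z.1.2)).symm
    refine ⟨⟨(fun k => z.1.1 (σ.1.symm k), z.1.2), ?_⟩, Subtype.ext e.symm⟩
    rw [MonoidHom.mem_ker]
    show chi h2 hnd (i0 _) = 1
    rw [e, map_mul, map_mul, map_inv, mul_inv_cancel_comm]
    exact z.2
  · obtain ⟨hz, hσ⟩ := inc_permW_eq_one h2 (congrArg Subtype.val h)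
    refine ⟨Subtype.ext (Prod.ext (funext fun k => Subtype.ext ?_) (congrArg Prod.snd hz :)), Subtype.ext hσ⟩
    exact congrFun (congrArg Prod.fst hz) k
  · have h1 := Subgroup.card_mul_index pr.ker
    rw [Subgroup.index_ker, MonoidHom.range_eq_top.2 hsurj, Subgroup.card_top, Nat.card_prod (Fin n → _),
      Nat.card_fun, Nat.card_fun, D.card_eq_multiplicity, Nat.card_fin, Nat.card_fin,
      Nat.factorization_def _ Nat.prime_two] at h1
    have h4 : Nat.card (ℤˣ × ℤˣ) = 2 ^ 2 := by simp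
    have hu : Nat.card ℤˣ = 2 := by simp
    rw [h4, hu, ← pow_mul, ← pow_add] at h1
    have hG := Subgroup.card_mul_index (commutator (oGroup (QW n w)))
    have hsur' : Function.Surjective (chi h2 hnd) := fun a => by
      obtain ⟨z, hz⟩ := hsurj a
      exact ⟨i0 z, hz⟩
    rw [← chi_ker h2 hnd, Subgroup.index_ker, MonoidHom.range_eq_top.2 hsur', Subgroup.card_top, h4,
      chi_ker h2 hnd] at hG
    rw [← hG, padicValNat.mul Nat.card_pos.ne' (by norm_num), padicValNat.prime_pow] at hcard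
    rw [card_perm_sylow, Fintype.card_fin]
    refine Nat.eq_of_mul_eq_mul_right (show 0 < 2 ^ 2 by norm_num) ?_
    rw [mul_right_comm, h1, ← pow_add, ← pow_add, mul_comm _ n]
    exact congrArg (2 ^ ·) (by omega)

/-- Transfer to the matrix groups. -/
theorem omega_sqComm {ι : Type} [Fintype ι] [DecidableEq ι] (h2 : (2 : F) ≠ 0) (hw : ∀ j, w j ≠ 0) (hn : 2 ≤ n)
    (Q : QuadraticForm F (ι → F)) (L : W F n r ≃ₗ[F] (ι → F)) (hL : ∀ x, Q (L x) = QW n w x)
    (hcard : padicValNat 2 (Nat.card (Cfsg.isometryGroup F ⇑Q)) =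
      n * padicValNat 2 (Nat.card (oGroup (B F))) + padicValNat 2 n.factorial + r)
    (P : Sylow 2 (Cfsg.Omega F ⇑Q)) : SqComm (P : Subgroup (Cfsg.Omega F ⇑Q)) := by
  classical
  let e0 : oGroup (QW n w) ≃* oGroup Q :=
    { toFun := fun g => ⟨L.symm.trans (g.1.trans L), fun v => by
        show Q (L (g.1 (L.symm v))) = Q v
        rw [hL, g.2, ← hL, LinearEquiv.apply_symm_apply]⟩
      invFun := fun g => ⟨L.trans (g.1.trans L.symm), fun v => by
        show QW n w (L.symm (g.1 (L v))) = QW n w v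
        rw [← hL, LinearEquiv.apply_symm_apply, g.2, hL]⟩
      left_inv := fun g => Subtype.ext (LinearEquiv.ext fun v => by simp)
      right_inv := fun g => Subtype.ext (LinearEquiv.ext fun v => by simp)
      map_mul' := fun g h => Subtype.ext (LinearEquiv.ext fun v => by simp) }
  let e : oGroup (QW n w) ≃* Cfsg.isometryGroup F ⇑Q := e0.trans (oEquiv Q).symm
  rw [← Nat.card_congr e.toEquiv] at hcard
  have hmap : (commutator (oGroup (QW n w))).map e.toMonoidHom = Cfsg.Omega F ⇑Q := by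
    rw [map_commutator_eq, MonoidHom.range_eq_top.2 e.surjective]
    rfl
  let e' : commutator (oGroup (QW n w)) ≃* Cfsg.Omega F ⇑Q :=
    (e.subgroupMap _).trans (MulEquiv.subgroupCongr hmap)
  let P' : Sylow 2 (commutator (oGroup (QW n w))) := default
  exact sylow_sqComm (e'.toMonoidHom.comp (P' : Subgroup (commutator (oGroup (QW n w)))).subtype)
    (e'.injective.comp Subtype.val_injective)
    (by rw [P'.card_eq_multiplicity, Nat.factorization_def _ Nat.prime_two, Nat.card_congr e'.toEquiv])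
    (sylow_model h2 hw hn hcard P') P

end Cfsg.Agent.OrthSylowTwo
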