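import Cfsg.Agent.Lib.OrthSylowTwo.Kernel
import Cfsg.Agent.Lib.FGS.SylowTwoClassical
import Cfsg.Agent.Lib.Spinor.Rows
import Cfsg.Agent.Lib.TwoRank.OrthModels
import Mathlib

/-!
A diagonal quadratic space made of planes `x² + y²` and signed coordinates, and its monomial 2-subgroup.
-/

set_option autoImplicit false
set_option linter.unusedSectionVars false

namespace Cfsg.Agent.OrthSylowTwo

open Cfsg.Agent.FormsLib Cfsg.Agent.Spinor Cfsg.Agent.FGS.SqC QuadraticMap

variable {F : Type*} [Field F] [Fintype F]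

variable (F) in
/-- The plane `x² + y²`. -/
noncomputable def B : QuadraticForm F (Fin 2 → F) := QuadraticMap.weightedSumSquares F (fun _ : Fin 2 => (1 : F))

theorem B_apply (x : Fin 2 → F) : B F x = x 0 * x 0 + x 1 * x 1 := by
  simp [B, QuadraticMap.weightedSumSquares_apply, Fin.sum_univ_two]

theorem nondeg_wss (h2 : (2 : F) ≠ 0) {κ : Type*} [Fintype κ] [DecidableEq κ] {w : κ → F} (hw : ∀ j, w j ≠ 0) :
    (QuadraticMap.polarBilin (QuadraticMap.weightedSumSquares F w)).Nondegenerate := by
  refine OrthOrder.nondegenerate_iff.2 fun x hx => funext fun j => ?_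
  have h := hx (Pi.single j 1)
  have e : QuadraticMap.polar (⇑(QuadraticMap.weightedSumSquares F w)) x (Pi.single j 1) = 2 * w j * x j := by
    simp only [QuadraticMap.polar, QuadraticMap.weightedSumSquares_apply, smul_eq_mul, Pi.add_apply,
      ← Finset.sum_sub_distrib]
    rw [Finset.sum_eq_single j (fun b _ hb => by simp [Pi.single_eq_of_ne hb]) (by simp), Pi.single_eq_same]
    ring
  rw [e] at h
  exact (mul_eq_zero.1 h).resolve_left (mul_ne_zero h2 (hw j))

section Char

variable {V : Type*} [AddCommGroup V] [Module F V] [FiniteDimensional F V] {Q : QuadraticForm F V}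
  (h2 : (2 : F) ≠ 0) (hQ : (QuadraticMap.polarBilin Q).Nondegenerate)

/-- The two characters together. -/
noncomputable def chi : oGroup Q →* ℤˣ × ℤˣ :=
  (dickHom hQ (reflGroup_eq_top_of_odd hQ h2)).prod (spinHom hQ (reflGroup_eq_top_of_odd hQ h2))

open scoped Classical in
theorem chi_refl {v : V} (hv : Q v ≠ 0) :
    chi h2 hQ (oRefl Q v hv) = (-1, if IsSquare (Q v) then 1 else -1) :=
  Prod.ext (dick_oRefl hQ hv) (spin_oRefl hQ hv)

theorem chi_ker : (chi h2 hQ).ker = commutator (oGroup Q) := by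
  ext g
  rw [MonoidHom.mem_ker, mem_commutator_iff hQ (Or.inl (card_ne_two h2)), Prod.ext_iff]
  rfl

theorem chi_comp_eq {G : Type*} [Group G] {T : Set G} (hT : Subgroup.closure T = ⊤) (φ : G →* oGroup Q)
    (ψ : G →* ℤˣ × ℤˣ) (h : ∀ x ∈ T, chi h2 hQ (φ x) = ψ x) (x : G) : chi h2 hQ (φ x) = ψ x :=
  DFunLike.congr_fun (MonoidHom.eq_of_eqOn_dense hT (f := (chi h2 hQ).comp φ) (g := ψ) h) x

end Char

section Plane

variable (h2 : (2 : F) ≠ 0)

include h2

theorem B_nondeg : (QuadraticMap.polarBilin (B F)).Nondegenerate := nondeg_wss h2 fun _ => one_ne_zero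

theorem exists_B_values : ∀ e : ℤˣ, ∃ g : oGroup (B F), chi h2 (B_nondeg h2) g = (-1, e) := by
  classical
  intro e
  obtain ⟨z, hz⟩ := FiniteField.exists_nonsquare (ringChar_ne_two h2)
  have hq : Fintype.card F % 2 = 1 := FiniteField.odd_card_of_char_ne_two (ringChar_ne_two h2)
  rcases Int.units_eq_one_or e with rfl | rfl
  · refine ⟨oRefl (B F) ![1, 0] (by simp [B_apply]), ?_⟩
    rw [chi_refl, if_pos]
    simp [B_apply]
  · open Polynomial in
    obtain ⟨x, y, hxy⟩ := FiniteField.exists_root_sum_quadratic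
      (f := (X ^ 2 : F[X])) (g := X ^ 2 - C z) (degree_X_pow 2)
      (by rw [degree_X_pow_sub_C (by norm_num)]; rfl) hq
    simp at hxy
    have hB : B F ![x, y] = z := by
      rw [B_apply]
      show x * x + y * y = z
      linear_combination hxy
    refine ⟨oRefl (B F) ![x, y] (by rw [hB]; rintro rfl; exact hz IsSquare.zero), ?_⟩
    rw [chi_refl, if_neg (by rwa [hB])]

theorem chi_B_surjective : Function.Surjective (chi h2 (B_nondeg (F := F) h2)) := by
  rintro ⟨a, b⟩
  rcases Int.units_eq_one_or a with rfl | rfl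
  · obtain ⟨g, hg⟩ := exists_B_values h2 b
    obtain ⟨g', hg'⟩ := exists_B_values (F := F) h2 1
    exact ⟨g * g', by rw [map_mul, hg, hg']; simp⟩
  · exact exists_B_values h2 b

/-- An improper isometry of the plane is an involution. -/
theorem plane_invol (g : oGroup (B F)) (hd : dick g = -1) : g * g = 1 := by
  have hdet : LinearEquiv.det g.1 = -1 := by
    ext
    rw [det_coe_dick (B_nondeg h2) (reflGroup_eq_top_of_odd (B_nondeg h2) h2) g, hd]
    simp
  set a := g.1 ![1, 0] 0 with ha
  set c := g.1 ![1, 0] 1 with hc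
  set b := g.1 ![0, 1] 0 with hb
  set d := g.1 ![0, 1] 1 with hd'
  have hlin : ∀ x : Fin 2 → F, g.1 x = ![x 0 * a + x 1 * b, x 0 * c + x 1 * d] := by
    intro x
    have e : x = x 0 • (![1, 0] : Fin 2 → F) + x 1 • ![0, 1] := by
      funext k; fin_cases k <;> simp
    conv_lhs => rw [e]
    rw [map_add, map_smul, map_smul]
    funext k
    fin_cases k <;> simp [ha, hb, hc, hd']
  have e1 := g.2 ![1, 0]
  have e2 := g.2 ![0, 1]
  have e3 := g.2 ![1, 1]
  simp only [B_apply, hlin] at e1 e2 e3
  simp at e1 e2 e3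
  have hdet' : a * d - b * c = -1 := by
    have h := LinearEquiv.coe_det g.1
    rw [hdet, ← LinearMap.det_toMatrix', Matrix.det_fin_two] at h
    simp [LinearMap.toMatrix'_apply, hlin] at h
    linear_combination -h
  have h3 : a * b + c * d = 0 := mul_left_cancel₀ h2 (by linear_combination e3 - e1 - e2)
  have hda : d = -a := by linear_combination -d * e1 + a * hdet' + c * h3
  have hcb : c = b := by linear_combination b * e1 + c * hdet' - a * h3
  refine Subtype.ext (LinearEquiv.ext fun x => ?_)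
  show g.1 (g.1 x) = x
  rw [hlin (g.1 x), hlin x]
  funext k
  fin_cases k
  · simp
    linear_combination x 0 * e1 + b * x 0 * (-1 : F) * (hcb) * 0 + (x 1 * b) * hda + x 0 * c * (-1 : F) * hcb
  · simp
    linear_combination x 1 * e1 + (x 0 * c + x 1 * (d - a)) * hda + x 1 * c * (-1 : F) * hcb

end Plane

end Cfsg.Agent.OrthSylowTwo
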